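import Cfsg.Agent.Lib.U43.Cert.DData

/-!
Evaluation of the coset table `DTab`.
-/

set_option autoImplicit false
set_option linter.all false

namespace Cfsg.Agent.U43.Cert.DTab

open Cfsg.Agent.CosetCert

theorem steps0 : rangeOK cert 0 600 = true := by decide +kernel

theorem steps1 : rangeOK cert 600 600 = true := by decide +kernel

theorem steps2 : rangeOK cert 1200 600 = true := by decide +kernel

theorem steps3 : rangeOK cert 1800 588 = true := by decide +kernel

theorem stepsUpto0 : ∀ i < 600, stepOK cert i = true := steps_add 0 600 (steps_zero cert) steps0

theorem stepsUpto1 : ∀ i < 1200, stepOK cert i = true := steps_add 600 600 stepsUpto0 steps1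

theorem stepsUpto2 : ∀ i < 1800, stepOK cert i = true := steps_add 1200 600 stepsUpto1 steps2

theorem stepsUpto3 : ∀ i < 2388, stepOK cert i = true := steps_add 1800 588 stepsUpto2 steps3

theorem rows0 : rowsOK table 0 180 = true := by decide +kernel

theorem rows1 : rowsOK table 180 180 = true := by decide +kernel

theorem rows2 : rowsOK table 360 180 = true := by decide +kernel

theorem rowsUpto0 : ∀ i < 180, rowOK table i = true := rows_add 0 180 (rows_zero table) rows0

theorem rowsUpto1 : ∀ i < 360, rowOK table i = true := rows_add 180 180 rowsUpto0 rows1

theorem rowsUpto2 : ∀ i < 540, rowOK table i = true := rows_add 360 180 rowsUpto1 rows2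

theorem orbit0 : orbitsOK table orbits 0 540 = true := by decide +kernel

theorem orbitUpto0 : ∀ i < 540, orbitOK table orbits i = true := orbits_add 0 540 (orbits_zero table orbits) orbit0

theorem checked : Checked table where
  start := by decide +kernel
  steps := stepsUpto3
  rows := rowsUpto2
  lettersW := by decide +kernel
  lettersS := by decide +kernel
  fixS := by decide +kernel
  pos := by decide +kernel

theorem orbitsAll : ∀ i < table.n, orbitOK table orbits i = true := orbitUpto0

end Cfsg.Agent.U43.Cert.DTab
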