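import Cfsg.Agent.Lib.U43.Cert.GData

/-!
Evaluation of the coset table `GTab`.
-/

set_option autoImplicit false
set_option linter.all false

namespace Cfsg.Agent.U43.Cert.GTab

open Cfsg.Agent.CosetCert

theorem steps0 : rangeOK cert 0 700 = true := by decide +kernel

theorem steps1 : rangeOK cert 700 700 = true := by decide +kernel

theorem steps2 : rangeOK cert 1400 700 = true := by decide +kernel

theorem steps3 : rangeOK cert 2100 700 = true := by decide +kernel

theorem steps4 : rangeOK cert 2800 700 = true := by decide +kernel

theorem steps5 : rangeOK cert 3500 700 = true := by decide +kernel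

theorem steps6 : rangeOK cert 4200 700 = true := by decide +kernel

theorem steps7 : rangeOK cert 4900 700 = true := by decide +kernel

theorem steps8 : rangeOK cert 5600 700 = true := by decide +kernel

theorem steps9 : rangeOK cert 6300 700 = true := by decide +kernel

theorem steps10 : rangeOK cert 7000 700 = true := by decide +kernel

theorem steps11 : rangeOK cert 7700 700 = true := by decide +kernel

theorem steps12 : rangeOK cert 8400 700 = true := by decide +kernel

theorem steps13 : rangeOK cert 9100 700 = true := by decide +kernel

theorem steps14 : rangeOK cert 9800 700 = true := by decide +kernel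

theorem steps15 : rangeOK cert 10500 700 = true := by decide +kernel

theorem steps16 : rangeOK cert 11200 700 = true := by decide +kernel

theorem steps17 : rangeOK cert 11900 700 = true := by decide +kernel

theorem steps18 : rangeOK cert 12600 289 = true := by decide +kernel

theorem stepsUpto0 : ∀ i < 700, stepOK cert i = true := steps_add 0 700 (steps_zero cert) steps0

theorem stepsUpto1 : ∀ i < 1400, stepOK cert i = true := steps_add 700 700 stepsUpto0 steps1

theorem stepsUpto2 : ∀ i < 2100, stepOK cert i = true := steps_add 1400 700 stepsUpto1 steps2

theorem stepsUpto3 : ∀ i < 2800, stepOK cert i = true := steps_add 2100 700 stepsUpto2 steps3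

theorem stepsUpto4 : ∀ i < 3500, stepOK cert i = true := steps_add 2800 700 stepsUpto3 steps4

theorem stepsUpto5 : ∀ i < 4200, stepOK cert i = true := steps_add 3500 700 stepsUpto4 steps5

theorem stepsUpto6 : ∀ i < 4900, stepOK cert i = true := steps_add 4200 700 stepsUpto5 steps6

theorem stepsUpto7 : ∀ i < 5600, stepOK cert i = true := steps_add 4900 700 stepsUpto6 steps7

theorem stepsUpto8 : ∀ i < 6300, stepOK cert i = true := steps_add 5600 700 stepsUpto7 steps8

theorem stepsUpto9 : ∀ i < 7000, stepOK cert i = true := steps_add 6300 700 stepsUpto8 steps9

theorem stepsUpto10 : ∀ i < 7700, stepOK cert i = true := steps_add 7000 700 stepsUpto9 steps10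

theorem stepsUpto11 : ∀ i < 8400, stepOK cert i = true := steps_add 7700 700 stepsUpto10 steps11

theorem stepsUpto12 : ∀ i < 9100, stepOK cert i = true := steps_add 8400 700 stepsUpto11 steps12

theorem stepsUpto13 : ∀ i < 9800, stepOK cert i = true := steps_add 9100 700 stepsUpto12 steps13

theorem stepsUpto14 : ∀ i < 10500, stepOK cert i = true := steps_add 9800 700 stepsUpto13 steps14

theorem stepsUpto15 : ∀ i < 11200, stepOK cert i = true := steps_add 10500 700 stepsUpto14 steps15

theorem stepsUpto16 : ∀ i < 11900, stepOK cert i = true := steps_add 11200 700 stepsUpto15 steps16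

theorem stepsUpto17 : ∀ i < 12600, stepOK cert i = true := steps_add 11900 700 stepsUpto16 steps17

theorem stepsUpto18 : ∀ i < 12889, stepOK cert i = true := steps_add 12600 289 stepsUpto17 steps18

theorem rows0 : rowsOK table 0 120 = true := by decide +kernel

theorem rows1 : rowsOK table 120 120 = true := by decide +kernel

theorem rows2 : rowsOK table 240 120 = true := by decide +kernel

theorem rows3 : rowsOK table 360 120 = true := by decide +kernel

theorem rows4 : rowsOK table 480 120 = true := by decide +kernel

theorem rows5 : rowsOK table 600 120 = true := by decide +kernel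

theorem rows6 : rowsOK table 720 120 = true := by decide +kernel

theorem rows7 : rowsOK table 840 120 = true := by decide +kernel

theorem rows8 : rowsOK table 960 120 = true := by decide +kernel

theorem rows9 : rowsOK table 1080 120 = true := by decide +kernel

theorem rows10 : rowsOK table 1200 120 = true := by decide +kernel

theorem rows11 : rowsOK table 1320 120 = true := by decide +kernel

theorem rows12 : rowsOK table 1440 120 = true := by decide +kernel

theorem rows13 : rowsOK table 1560 120 = true := by decide +kernel

theorem rows14 : rowsOK table 1680 120 = true := by decide +kernel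

theorem rows15 : rowsOK table 1800 120 = true := by decide +kernel

theorem rows16 : rowsOK table 1920 120 = true := by decide +kernel

theorem rows17 : rowsOK table 2040 120 = true := by decide +kernel

theorem rows18 : rowsOK table 2160 120 = true := by decide +kernel

theorem rows19 : rowsOK table 2280 120 = true := by decide +kernel

theorem rows20 : rowsOK table 2400 120 = true := by decide +kernel

theorem rows21 : rowsOK table 2520 120 = true := by decide +kernel

theorem rows22 : rowsOK table 2640 120 = true := by decide +kernel

theorem rows23 : rowsOK table 2760 75 = true := by decide +kernel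

theorem rowsUpto0 : ∀ i < 120, rowOK table i = true := rows_add 0 120 (rows_zero table) rows0

theorem rowsUpto1 : ∀ i < 240, rowOK table i = true := rows_add 120 120 rowsUpto0 rows1

theorem rowsUpto2 : ∀ i < 360, rowOK table i = true := rows_add 240 120 rowsUpto1 rows2

theorem rowsUpto3 : ∀ i < 480, rowOK table i = true := rows_add 360 120 rowsUpto2 rows3

theorem rowsUpto4 : ∀ i < 600, rowOK table i = true := rows_add 480 120 rowsUpto3 rows4

theorem rowsUpto5 : ∀ i < 720, rowOK table i = true := rows_add 600 120 rowsUpto4 rows5

theorem rowsUpto6 : ∀ i < 840, rowOK table i = true := rows_add 720 120 rowsUpto5 rows6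

theorem rowsUpto7 : ∀ i < 960, rowOK table i = true := rows_add 840 120 rowsUpto6 rows7

theorem rowsUpto8 : ∀ i < 1080, rowOK table i = true := rows_add 960 120 rowsUpto7 rows8

theorem rowsUpto9 : ∀ i < 1200, rowOK table i = true := rows_add 1080 120 rowsUpto8 rows9

theorem rowsUpto10 : ∀ i < 1320, rowOK table i = true := rows_add 1200 120 rowsUpto9 rows10

theorem rowsUpto11 : ∀ i < 1440, rowOK table i = true := rows_add 1320 120 rowsUpto10 rows11

theorem rowsUpto12 : ∀ i < 1560, rowOK table i = true := rows_add 1440 120 rowsUpto11 rows12

theorem rowsUpto13 : ∀ i < 1680, rowOK table i = true := rows_add 1560 120 rowsUpto12 rows13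

theorem rowsUpto14 : ∀ i < 1800, rowOK table i = true := rows_add 1680 120 rowsUpto13 rows14

theorem rowsUpto15 : ∀ i < 1920, rowOK table i = true := rows_add 1800 120 rowsUpto14 rows15

theorem rowsUpto16 : ∀ i < 2040, rowOK table i = true := rows_add 1920 120 rowsUpto15 rows16

theorem rowsUpto17 : ∀ i < 2160, rowOK table i = true := rows_add 2040 120 rowsUpto16 rows17

theorem rowsUpto18 : ∀ i < 2280, rowOK table i = true := rows_add 2160 120 rowsUpto17 rows18

theorem rowsUpto19 : ∀ i < 2400, rowOK table i = true := rows_add 2280 120 rowsUpto18 rows19

theorem rowsUpto20 : ∀ i < 2520, rowOK table i = true := rows_add 2400 120 rowsUpto19 rows20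

theorem rowsUpto21 : ∀ i < 2640, rowOK table i = true := rows_add 2520 120 rowsUpto20 rows21

theorem rowsUpto22 : ∀ i < 2760, rowOK table i = true := rows_add 2640 120 rowsUpto21 rows22

theorem rowsUpto23 : ∀ i < 2835, rowOK table i = true := rows_add 2760 75 rowsUpto22 rows23

theorem checked : Checked table where
  start := by decide +kernel
  steps := stepsUpto18
  rows := rowsUpto23
  lettersW := by decide +kernel
  lettersS := by decide +kernel
  fixS := by decide +kernel
  pos := by decide +kernel

theorem closed : Closed table := checked.closed

end Cfsg.Agent.U43.Cert.GTab
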