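import Cfsg.Agent.Lib.U43.Cert.YData

/-!
Evaluation of the facts of `YTab`.
-/

set_option autoImplicit false
set_option linter.all false

namespace Cfsg.Agent.U43.Cert.YTab

open Cfsg.Agent.CosetCert

theorem start : fM (cert.F.get 0) = 1 := by decide +kernel

theorem steps0 : rangeOK cert 0 600 = true := by decide +kernel

theorem steps1 : rangeOK cert 600 600 = true := by decide +kernel

theorem steps2 : rangeOK cert 1200 600 = true := by decide +kernel

theorem steps3 : rangeOK cert 1800 600 = true := by decide +kernel

theorem steps4 : rangeOK cert 2400 600 = true := by decide +kernel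

theorem steps5 : rangeOK cert 3000 421 = true := by decide +kernel

theorem stepsUpto0 : ∀ i < 600, stepOK cert i = true := steps_add 0 600 (steps_zero cert) steps0

theorem stepsUpto1 : ∀ i < 1200, stepOK cert i = true := steps_add 600 600 stepsUpto0 steps1

theorem stepsUpto2 : ∀ i < 1800, stepOK cert i = true := steps_add 1200 600 stepsUpto1 steps2

theorem stepsUpto3 : ∀ i < 2400, stepOK cert i = true := steps_add 1800 600 stepsUpto2 steps3

theorem stepsUpto4 : ∀ i < 3000, stepOK cert i = true := steps_add 2400 600 stepsUpto3 steps4

theorem stepsUpto5 : ∀ i < 3421, stepOK cert i = true := steps_add 3000 421 stepsUpto4 steps5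

theorem stepsAll : ∀ i < cert.N, stepOK cert i = true := stepsUpto5

theorem loop :
    (walk cert.K cert.F cert.N pathLen pathBody 0).map (fun p => (p.1, p.2.1)) = some (0, Words.naXY) := by
  decide +kernel

end Cfsg.Agent.U43.Cert.YTab
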