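import Cfsg.Agent.Lib.U43.Cert.HData

/-!
Evaluation of the coset table `HTab`.
-/

set_option autoImplicit false
set_option linter.all false

namespace Cfsg.Agent.U43.Cert.HTab

open Cfsg.Agent.CosetCert

theorem steps0 : rangeOK cert 0 600 = true := by decide +kernel

theorem steps1 : rangeOK cert 600 600 = true := by decide +kernel

theorem steps2 : rangeOK cert 1200 600 = true := by decide +kernel

theorem steps3 : rangeOK cert 1800 600 = true := by decide +kernel

theorem steps4 : rangeOK cert 2400 600 = true := by decide +kernel

theorem steps5 : rangeOK cert 3000 600 = true := by decide +kernel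

theorem steps6 : rangeOK cert 3600 600 = true := by decide +kernel

theorem steps7 : rangeOK cert 4200 446 = true := by decide +kernel

theorem stepsUpto0 : ∀ i < 600, stepOK cert i = true := steps_add 0 600 (steps_zero cert) steps0

theorem stepsUpto1 : ∀ i < 1200, stepOK cert i = true := steps_add 600 600 stepsUpto0 steps1

theorem stepsUpto2 : ∀ i < 1800, stepOK cert i = true := steps_add 1200 600 stepsUpto1 steps2

theorem stepsUpto3 : ∀ i < 2400, stepOK cert i = true := steps_add 1800 600 stepsUpto2 steps3

theorem stepsUpto4 : ∀ i < 3000, stepOK cert i = true := steps_add 2400 600 stepsUpto3 steps4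

theorem stepsUpto5 : ∀ i < 3600, stepOK cert i = true := steps_add 3000 600 stepsUpto4 steps5

theorem stepsUpto6 : ∀ i < 4200, stepOK cert i = true := steps_add 3600 600 stepsUpto5 steps6

theorem stepsUpto7 : ∀ i < 4646, stepOK cert i = true := steps_add 4200 446 stepsUpto6 steps7

theorem rows0 : rowsOK table 0 150 = true := by decide +kernel

theorem rows1 : rowsOK table 150 150 = true := by decide +kernel

theorem rows2 : rowsOK table 300 150 = true := by decide +kernel

theorem rows3 : rowsOK table 450 150 = true := by decide +kernel

theorem rows4 : rowsOK table 600 150 = true := by decide +kernel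

theorem rows5 : rowsOK table 750 150 = true := by decide +kernel

theorem rows6 : rowsOK table 900 150 = true := by decide +kernel

theorem rows7 : rowsOK table 1050 102 = true := by decide +kernel

theorem rowsUpto0 : ∀ i < 150, rowOK table i = true := rows_add 0 150 (rows_zero table) rows0

theorem rowsUpto1 : ∀ i < 300, rowOK table i = true := rows_add 150 150 rowsUpto0 rows1

theorem rowsUpto2 : ∀ i < 450, rowOK table i = true := rows_add 300 150 rowsUpto1 rows2

theorem rowsUpto3 : ∀ i < 600, rowOK table i = true := rows_add 450 150 rowsUpto2 rows3

theorem rowsUpto4 : ∀ i < 750, rowOK table i = true := rows_add 600 150 rowsUpto3 rows4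

theorem rowsUpto5 : ∀ i < 900, rowOK table i = true := rows_add 750 150 rowsUpto4 rows5

theorem rowsUpto6 : ∀ i < 1050, rowOK table i = true := rows_add 900 150 rowsUpto5 rows6

theorem rowsUpto7 : ∀ i < 1152, rowOK table i = true := rows_add 1050 102 rowsUpto6 rows7

theorem checked : Checked table where
  start := by decide +kernel
  steps := stepsUpto7
  rows := rowsUpto7
  lettersW := by decide +kernel
  lettersS := by decide +kernel
  fixS := by decide +kernel
  pos := by decide +kernel

theorem closed : Closed table := checked.closed

end Cfsg.Agent.U43.Cert.HTab
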